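import Mathlib
import Cfsg.Agent.H500.IF.SpCell
import Cfsg.Agent.H353.IF.SpField
import Cfsg.Agent.H511.IF.SpF
import Cfsg.Agent.H17.IFSp.Mat

/-!
# S5719, `PSp_2m(q)`, `q` odd, `m = 3, 4` (helper500; with helper353, helper511, helper17)
-/

set_option autoImplicit false

namespace Cfsg.Agent.H500.IFSp

open Cfsg Module Cfsg.Agent.ClassicalGeometry.SympBasic Cfsg.Agent.ClassicalGeometry.SympSiegel Cfsg.Agent.H914.Gs
  Cfsg.Agent.H209.Fxy

/-- **Assembly, only the elements with `x² = 1` remain.** -/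
theorem cell_of_one (F : Type) [Field F] [Fintype F] (m : ℕ) (ho : Odd (Fintype.card F)) (h3 : 3 ≤ m) (h4 : m ≤ 4)
    (hs : IsSimpleGroup (PSp m F)) {A : Subgroup (PSp m F)} {Γ : Subgroup (MulAut (PSp m F))} (h : IF A Γ)
    (hF : ∀ z ∈ A.comap (QuotientGroup.mk' (Subgroup.center (Matrix.symplecticGroup (Fin m) F))), Fundl z → False)
    (h22 : m = 4 → ∀ x ∈ A.comap (QuotientGroup.mk' (Subgroup.center (Matrix.symplecticGroup (Fin m) F))),
      (∀ v : Fin m ⊕ Fin m → F, x • x • v = v) → finrank F (eigS x (-1 : F)) = 4 → False)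
    (hA : ∃ t ∈ A, orderOf t = 2) : False :=
  cell_of F m ho h3 h4 hs h hF h22 (fun hsq _ H0 _ hxx hE =>
    Cfsg.Agent.H353.IF.SpField.kill_field (by omega) (two_ne ho) hsq H0 hxx hE) hA

theorem mul_self_of {F : Type*} [Field F] {m : ℕ} {x : Matrix.symplecticGroup (Fin m) F}
    (hx : ∀ v : Fin m ⊕ Fin m → F, x • x • v = v) : x * x = 1 :=
  ext_smul fun v => by rw [mul_smul, hx, one_smul]

/-- `rank (z - 1) = 2` -/
theorem fundl_of_rank {F : Type*} [Field F] {m : ℕ} (h2 : (2 : F) ≠ 0) {z : Matrix.symplecticGroup (Fin m) F}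
    (hz : z * z = 1) (hr : ((z : Matrix (Fin m ⊕ Fin m) (Fin m ⊕ Fin m) F) - 1).rank = 2) : Fundl z := by
  have hzz : ∀ v : Fin m ⊕ Fin m → F, z • z • v = v := fun v => by rw [← mul_smul, hz, one_smul]
  apply fund_of h2 hzz
  have h1 := LinearMap.finrank_range_add_finrank_ker
    ((z : Matrix (Fin m ⊕ Fin m) (Fin m ⊕ Fin m) F) - 1).mulVecLin
  have h3 : LinearMap.ker ((z : Matrix (Fin m ⊕ Fin m) (Fin m ⊕ Fin m) F) - 1).mulVecLin = eigS z (1 : F) := by
    ext v
    rw [LinearMap.mem_ker, Matrix.mulVecLin_apply, Matrix.sub_mulVec, Matrix.one_mulVec, sub_eq_zero, mem_eigS,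
      one_smul]
    rfl
  have h5 : finrank F (LinearMap.range ((z : Matrix (Fin m ⊕ Fin m) (Fin m ⊕ Fin m) F) - 1).mulVecLin) = 2 := hr
  have h6 := eig_finrank h2 hzz
  rw [h3, h5, finrank_fintype_fun_eq_card, Fintype.card_sum, Fintype.card_fin] at h1
  omega

/-- **`x² = 1`, `dim V₊ = dim V₋ = 4`, `m = 4`.** -/
theorem kill_22 {F : Type} [Field F] [Fintype F] {m : ℕ} (hm : m = 4) (h2 : (2 : F) ≠ 0)
    {H : Subgroup (Matrix.symplecticGroup (Fin m) F)} (hF : ∀ z ∈ H, Fundl z → False)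
    {x : Matrix.symplecticGroup (Fin m) F} (hxx : ∀ v : Fin m ⊕ Fin m → F, x • x • v = v)
    (hd : finrank F (eigS x (-1 : F)) = 4)
    (hE : ∀ B ≤ Subgroup.centralizer ({x} : Set (Matrix.symplecticGroup (Fin m) F)),
      H.relIndex B ^ 5 < (Subgroup.centralizer ({x} : Set (Matrix.symplecticGroup (Fin m) F))).index) : False := by
  have : Finite (Matrix.symplecticGroup (Fin m) F) := Subtype.finite
  have hq : 1 < Fintype.card F := Fintype.one_lt_card
  subst hm
  have h1 : finrank F (eigS x (1 : F)) = 2 * 2 := by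
    have := eig_finrank h2 hxx
    omega
  have key : ∀ X : Subgroup (Matrix.symplecticGroup (Fin 4) F), (∀ z ∈ X, Fundl z → False) →
      Fintype.card F ^ 6 ≤ X.relIndex (Subgroup.centralizer ({x} : Set (Matrix.symplecticGroup (Fin 4) F))) := by
    intro X hX
    have h3 := Cfsg.Agent.H17.IFSp.phi_mat_cent h2 (mul_self_of hxx) (k := 2) (l := 2) hd h1 X
      (fun z hz hr hzX => hX z hzX (fundl_of_rank h2 hz hr))
    rw [Nat.card_eq_fintype_card] at h3
    exact h3
  have h3 := key H hF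
  have h4 := key ⊥ (by
    rintro z hz ⟨a, b, hab, ha, -, -⟩
    rw [Subgroup.mem_bot] at hz
    subst hz
    rw [one_smul] at ha
    have h6 : a = 0 := by
      have h7 : (2 : F) • a = 0 := by
        rw [two_smul]
        nth_rw 2 [ha]
        exact add_neg_cancel a
      exact (smul_eq_zero.1 h7).resolve_left h2
    rw [h6, sympForm_zero_left] at hab
    exact zero_ne_one hab)
  rw [Subgroup.relIndex_bot_left] at h4
  have h5 := hE _ le_rfl
  have h6 := Subgroup.index_mul_card (Subgroup.centralizer ({x} : Set (Matrix.symplecticGroup (Fin 4) F)))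
  have h7 := card_sp_le (F := F) (m := 4)
  have h8 : (Fintype.card F ^ 6) ^ 5 ≤ H.relIndex (Subgroup.centralizer ({x} : Set (Matrix.symplecticGroup (Fin 4) F))) ^ 5 :=
    Nat.pow_le_pow_left h3 5
  have h9 := lt_of_le_of_lt h8 h5
  have h10 : (Fintype.card F ^ 6) ^ 5 * Fintype.card F ^ 6 < Fintype.card F ^ (2 * 4 ^ 2 + 4) := by
    refine lt_of_lt_of_le (Nat.mul_lt_mul_of_pos_right h9 (pow_pos (by omega) _)) (le_trans (Nat.mul_le_mul_left _ h4) ?_)
    rw [h6]
    exact h7
  rw [← pow_mul, ← pow_add] at h10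
  exact lt_irrefl _ h10

/-- **The cell `PSp_6(q)`, `PSp_8(q)`, `q` odd, of S5719.** -/
theorem oddmid : ∀ (F : Type) [Field F] [Fintype F] (m : ℕ), Odd (Fintype.card F) → 3 ≤ m → m ≤ 4 →
    IsSimpleGroup (PSp m F) → KillE (PSp m F) := by
  intro F _ _ m ho h3 h4 hs A Γ h hA
  have : Finite (Matrix.symplecticGroup (Fin m) F) := Subtype.finite
  have : Finite (PSp m F) := Quotient.finite _
  have h2 := two_ne ho
  have hF : ∀ z ∈ A.comap (QuotientGroup.mk' (Subgroup.center (Matrix.symplecticGroup (Fin m) F))),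
      Fundl z → False := by
    rintro z hz ⟨a, b, hab, ha, hb, hu⟩
    refine Cfsg.Agent.H511.IF.fund_eig h h3 ho hab (e := 1) (one_mul 1) ?_ ?_ ?_ hz
    · rw [one_smul, ha]
    · rw [one_smul, hb]
    · intro u hua hub
      rw [one_smul, hu u hua hub]
  refine cell_of_one F m ho h3 h4 hs h hF ?_ hA
  intro hm x hx hxx hd
  have hna := Cfsg.Agent.H511.IF.noncomm (m := m) (F := F) h3
  refine kill_22 hm h2 hF hxx hd ?_
  intro B hB
  refine Cfsg.Agent.H847.IF.lift_E2 h hna _ (QuotientGroup.mk'_surjective _) hx ?_ ?_ ?_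
  · intro h5
    have h6 : x ∈ Subgroup.center (Matrix.symplecticGroup (Fin m) F) := (QuotientGroup.eq_one_iff _).1 h5
    have h7 := eig_finrank h2 hxx
    rcases of_mem_center (by omega) h6 with h8 | h8
    · have h9 : eigS x (1 : F) = ⊤ := by
        rw [eq_top_iff]
        intro v _
        rw [mem_eigS, one_smul]
        exact h8 v
      rw [h9, finrank_top, finrank_fintype_fun_eq_card, Fintype.card_sum, Fintype.card_fin] at h7
      omega
    · have h9 : eigS x (-1 : F) = ⊤ := by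
        rw [eq_top_iff]
        intro v _
        rw [mem_eigS, neg_smul, one_smul]
        exact h8 v
      rw [h9, finrank_top, finrank_fintype_fun_eq_card, Fintype.card_sum, Fintype.card_fin] at hd
      omega
  · rw [mul_self_of hxx, map_one]
  · intro b hb
    rw [Subgroup.mem_centralizer_singleton_iff.1 (hB hb)]

end Cfsg.Agent.H500.IFSp
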