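import Mathlib
import Cfsg.Agent.H500.IF.SpConj
import Cfsg.Agent.H353.IF.PhiSLCor
import Cfsg.Agent.S0205
import Cfsg.Agent.S0242
import Cfsg.Agent.S0245

/-!
# S5719, `PSp_2m(q)`, `q` odd, `m ≥ 3`: elements with `x² = -1`, `-1` a square (helper500)
-/

set_option autoImplicit false

namespace Cfsg.Agent.H500.IFSp

open Cfsg Module Matrix Cfsg.Agent.ClassicalGeometry.SympBasic Cfsg.Agent.ClassicalGeometry.SympSiegel
  Cfsg.Agent.H914.Gs Cfsg.Agent.H353.Phi

variable {F : Type*} [Field F] {m : ℕ}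

local notation "V" => (Fin m ⊕ Fin m → F)
local notation "G" => Matrix.symplecticGroup (Fin m) F
local notation "f" => sympForm m F

/-- `SL_m(F) → Sp_2m(F)` -/
def lev (m : ℕ) (F : Type*) [Field F] : SpecialLinearGroup (Fin m) F →* Matrix.symplecticGroup (Fin m) F where
  toFun A := ⟨fromBlocks A.1 0 0 (A⁻¹).1ᵀ, by
    have h : (A⁻¹).1 * A.1 = 1 := congrArg Subtype.val (inv_mul_cancel A)
    rw [SymplecticGroup.fromBlocks_mem_iff]
    refine ⟨by simp only [mul_zero, transpose_zero, zero_mul], by simp only [mul_zero, transpose_zero, zero_mul], ?_⟩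
    rw [← transpose_mul, h, transpose_one, transpose_zero, zero_mul, sub_zero]⟩
  map_one' := by
    apply Subtype.ext
    have h : ((1 : SpecialLinearGroup (Fin m) F)⁻¹).1 = 1 := by
      rw [_root_.inv_one]
      rfl
    show fromBlocks (1 : Matrix (Fin m) (Fin m) F) 0 0 ((1 : SpecialLinearGroup (Fin m) F)⁻¹).1ᵀ = 1
    rw [h, transpose_one, fromBlocks_one]
  map_mul' A B := by
    apply Subtype.ext
    show fromBlocks (A.1 * B.1) 0 0 ((A * B)⁻¹).1ᵀ = fromBlocks A.1 0 0 (A⁻¹).1ᵀ * fromBlocks B.1 0 0 (B⁻¹).1ᵀ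
    have e : ((A * B)⁻¹).1 = (B⁻¹).1 * (A⁻¹).1 := by
      rw [_root_.mul_inv_rev]
      rfl
    rw [fromBlocks_multiply, e, transpose_mul]
    simp only [mul_zero, zero_mul, add_zero, zero_add]

theorem lev_coe (A : SpecialLinearGroup (Fin m) F) : (lev m F A).1 = fromBlocks A.1 0 0 (A⁻¹).1ᵀ := rfl

theorem lev_smul_inl (A : SpecialLinearGroup (Fin m) F) (u : Fin m → F) :
    lev m F A • (Sum.elim u 0 : V) = Sum.elim (A.1 *ᵥ u) 0 := by
  rw [smul_def, lev_coe, fromBlocks_mulVec]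
  simp

theorem lev_injective : Function.Injective (lev m F) := by
  intro A B h
  have h1 := congrArg Subtype.val h
  rw [lev_coe, lev_coe, fromBlocks_inj] at h1
  exact Subtype.ext h1.1

/-- `diag(i, -i)` -/
def x0 (i : F) (hi : i * i = -1) : G := ⟨fromBlocks (i • 1) 0 0 (-(i • 1)), by
  rw [SymplecticGroup.fromBlocks_mem_iff]
  refine ⟨by simp only [mul_zero, transpose_zero, zero_mul], by simp only [mul_zero, transpose_zero, zero_mul], ?_⟩
  rw [transpose_smul, transpose_one, transpose_zero, zero_mul, sub_zero, mul_neg, smul_mul_smul_comm, hi, mul_one,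
    neg_smul, one_smul, neg_neg]⟩

theorem x0_sq (i : F) (hi : i * i = -1) (v : V) : x0 (m := m) i hi • x0 (m := m) i hi • v = -v := by
  have h : x0 (m := m) i hi * x0 i hi = ⟨-1, SymplecticGroup.neg_mem (one_mem _)⟩ := by
    apply Subtype.ext
    show fromBlocks (i • 1) 0 0 (-(i • 1)) * fromBlocks (i • 1) 0 0 (-(i • 1)) = -(1 : Matrix (Fin m ⊕ Fin m) (Fin m ⊕ Fin m) F)
    rw [fromBlocks_multiply, ← fromBlocks_one, fromBlocks_neg]
    simp only [mul_zero, zero_mul, add_zero, zero_add, neg_mul, mul_neg, neg_neg, neg_zero, smul_mul_smul_comm, hi,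
      mul_one, neg_smul, one_smul]
  rw [← mul_smul, h]
  show (-1 : Matrix (Fin m ⊕ Fin m) (Fin m ⊕ Fin m) F) *ᵥ v = -v
  rw [neg_mulVec, one_mulVec]

theorem lev_comm (i : F) (hi : i * i = -1) (A : SpecialLinearGroup (Fin m) F) :
    lev m F A * x0 i hi = x0 i hi * lev m F A := by
  apply Subtype.ext
  show fromBlocks A.1 0 0 (A⁻¹).1ᵀ * fromBlocks (i • 1) 0 0 (-(i • 1)) =
    fromBlocks (i • 1) 0 0 (-(i • 1)) * fromBlocks A.1 0 0 (A⁻¹).1ᵀ
  rw [fromBlocks_multiply, fromBlocks_multiply]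
  simp only [mul_zero, zero_mul, add_zero, zero_add, neg_mul, mul_neg, smul_mul_assoc, mul_smul_comm, one_mul, mul_one,
    smul_zero, neg_zero]

theorem mulVec_one_of (A : Matrix (Fin m) (Fin m) F) (c : F) (h : ∀ u, A *ᵥ u = c • u) : A = c • 1 := by
  ext i j
  have h1 := congrFun (h (Pi.single j 1)) i
  rw [mulVec_single_one] at h1
  simpa [Matrix.one_apply, Pi.single_apply] using h1

/-- a fundamental involution of `SL_m`, `m ≥ 3`, is not `±1` -/
theorem mfund_ne (h2 : (2 : F) ≠ 0) (hm : 3 ≤ m) {z : SpecialLinearGroup (Fin m) F} (hz : mfund z) (h : G) :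
    ¬((∀ v : V, (h * lev m F z * h⁻¹) • v = v) ∨ ∀ v : V, (h * lev m F z * h⁻¹) • v = -v) := by
  have key : ∀ c : F, (∀ v : V, (h * lev m F z * h⁻¹) • v = c • v) → z.1 = c • 1 := by
    intro c hc
    apply mulVec_one_of
    intro u
    have h1 := hc (h • (Sum.elim u 0 : V))
    rw [mul_smul, mul_smul, inv_smul_smul, lev_smul_inl, ← smul_smul'] at h1
    have h3 := (MulAction.injective h) h1
    funext k
    have h4 := congrFun h3 (Sum.inl k)
    simpa using h4
  rintro (h1 | h1)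
  · have h3 := key 1 (fun v => by rw [one_smul]; exact h1 v)
    have h4 := hz.2
    rw [h3, one_smul, sub_self, rank_zero] at h4
    omega
  · have h3 := key (-1) (fun v => by rw [neg_smul, one_smul]; exact h1 v)
    have h4 := hz.2
    have h5 : IsUnit ((-1 : F) • (1 : Matrix (Fin m) (Fin m) F) - 1) := by
      have e : ((-1 : F) • (1 : Matrix (Fin m) (Fin m) F) - 1) = (-2 : F) • 1 := by
        rw [show (-2 : F) = -1 - 1 by ring, sub_smul, one_smul]
      rw [e]
      refine IsUnit.of_mul_eq_one ((-2 : F)⁻¹ • 1) ?_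
      rw [smul_mul_smul_comm, mul_one, mul_inv_cancel₀ (neg_ne_zero.2 h2), one_smul]
    have h6 : (z : Matrix (Fin m) (Fin m) F) = (-1 : F) • 1 := h3
    rw [h6, rank_of_isUnit _ h5, Fintype.card_fin] at h4
    omega

/-! ### numbers -/

theorem card_sp_le [Fintype F] : Nat.card (Matrix.symplecticGroup (Fin m) F) ≤ Fintype.card F ^ (2 * m ^ 2 + m) := by
  rw [Cfsg.Agent.S0245.result rfl m]
  have h1 : ∏ i ∈ Finset.range m, (Fintype.card F ^ (2 * (i + 1)) - 1) ≤ Fintype.card F ^ (m ^ 2 + m) := by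
    have h3 : ∑ i ∈ Finset.range m, 2 * (i + 1) = m ^ 2 + m := by
      induction m with
      | zero => rfl
      | succ k ih =>
        rw [Finset.sum_range_succ, ih]
        ring
    rw [← h3, ← Finset.prod_pow_eq_pow_sum]
    exact Finset.prod_le_prod' fun i _ => Nat.sub_le _ _
  calc _ ≤ Fintype.card F ^ (m ^ 2) * Fintype.card F ^ (m ^ 2 + m) := Nat.mul_le_mul_left _ h1
    _ = _ := by rw [← pow_add]; congr 1; ring

theorem le_card_sl [Fintype F] (hm : 1 ≤ m) :
    Fintype.card F ^ (m * (m - 1)) ≤ Nat.card (SpecialLinearGroup (Fin m) F) := by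
  have hq : 1 < Fintype.card F := Fintype.one_lt_card
  have h := Cfsg.Agent.S0242.result (F := F) rfl m hm
  have h1 : ∀ i : Fin m, Fintype.card F ^ (m - 1) ≤ Fintype.card F ^ m - Fintype.card F ^ (i : ℕ) := by
    intro i
    have h3 : Fintype.card F ^ (i : ℕ) ≤ Fintype.card F ^ (m - 1) := Nat.pow_le_pow_right (by omega) (by omega)
    have h4 : 2 * Fintype.card F ^ (m - 1) ≤ Fintype.card F ^ m := by
      obtain ⟨k, rfl⟩ := Nat.exists_eq_add_of_le' hm
      rw [Nat.add_sub_cancel, pow_succ, mul_comm]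
      exact Nat.mul_le_mul_left _ hq
    omega
  -- `∏ ≥ (q^m - 1) (q^(m-1))^(m-1)` and `q^m - 1 ≥ (q - 1) q^(m-1)`
  obtain ⟨k, rfl⟩ := Nat.exists_eq_add_of_le' hm
  rw [Fin.prod_univ_succ] at h
  have h5 : (Fintype.card F ^ k) ^ k ≤ ∏ i : Fin k, (Fintype.card F ^ (k + 1) - Fintype.card F ^ ((i.succ : Fin (k + 1)) : ℕ)) := by
    calc (Fintype.card F ^ k) ^ k = ∏ _i : Fin k, Fintype.card F ^ k := by
          rw [Finset.prod_const, Finset.card_univ, Fintype.card_fin]
      _ ≤ _ := Finset.prod_le_prod' fun i _ => h1 i.succ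
  have h6 : (Fintype.card F - 1) * Fintype.card F ^ k ≤ Fintype.card F ^ (k + 1) - Fintype.card F ^ ((0 : Fin (k + 1)) : ℕ) := by
    rw [Fin.val_zero, pow_zero, pow_succ]
    have : 1 ≤ Fintype.card F ^ k := Nat.one_le_pow _ _ (by omega)
    rw [Nat.sub_mul, one_mul, mul_comm]
    omega
  have h7 := Nat.mul_le_mul h6 h5
  rw [← h] at h7
  have h8 : (Fintype.card F - 1) * Fintype.card F ^ ((k + 1) * (k + 1 - 1)) ≤
      (Fintype.card F - 1) * Nat.card (SpecialLinearGroup (Fin (k + 1)) F) := by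
    refine le_trans (le_of_eq ?_) h7
    rw [Nat.add_sub_cancel, ← pow_mul, mul_assoc, ← pow_add]
    congr 2
    ring
  exact Nat.le_of_mul_le_mul_left h8 (by omega)

/-- **`x² = -1`, `-1` a square.** -/
theorem kill_split {F : Type*} [Field F] [Fintype F] {m : ℕ} (hm : 3 ≤ m) (h2 : (2 : F) ≠ 0) {i : F} (hi : i * i = -1)
    {H : Subgroup (Matrix.symplecticGroup (Fin m) F)}
    (H0 : ∀ y ∈ H, (∀ v : Fin m ⊕ Fin m → F, y • y • v = v) →
      (∀ v : Fin m ⊕ Fin m → F, y • v = v) ∨ ∀ v : Fin m ⊕ Fin m → F, y • v = -v)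
    {x : Matrix.symplecticGroup (Fin m) F} (hxx : ∀ v : Fin m ⊕ Fin m → F, x • x • v = -v)
    (hE : ∀ B ≤ Subgroup.centralizer ({x} : Set (Matrix.symplecticGroup (Fin m) F)),
      H.relIndex B ^ 5 < (Subgroup.centralizer ({x} : Set (Matrix.symplecticGroup (Fin m) F))).index) : False := by
  have : Finite (Matrix.symplecticGroup (Fin m) F) := Subtype.finite
  have : Finite (SpecialLinearGroup (Fin m) F) := Subtype.finite
  have hq : 1 < Fintype.card F := Fintype.one_lt_card
  obtain ⟨h, hh⟩ := conj_of_sq h2 (x0_sq (m := m) i hi) hxx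
  let κ : SpecialLinearGroup (Fin m) F →* Matrix.symplecticGroup (Fin m) F :=
    (MulAut.conj h).toMonoidHom.comp (lev m F)
  have hκ : ∀ A, κ A = h * lev m F A * h⁻¹ := fun A => rfl
  have hκi : Function.Injective κ := (MulAut.conj h).injective.comp lev_injective
  have hr : κ.range ≤ Subgroup.centralizer ({x} : Set (Matrix.symplecticGroup (Fin m) F)) := by
    rintro _ ⟨A, rfl⟩
    rw [Subgroup.mem_centralizer_singleton_iff, ← hh, hκ]
    have := lev_comm i hi A
    calc h * lev m F A * h⁻¹ * (h * x0 i hi * h⁻¹) = h * (lev m F A * x0 i hi) * h⁻¹ := by group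
      _ = h * (x0 i hi * lev m F A) * h⁻¹ := by rw [this]
      _ = _ := by group
  have h1 := hE _ hr
  have h3 : Nat.card F ^ (Fintype.card (Fin m) * (Fintype.card (Fin m) - 1) / 2) ≤ (H.comap κ).index := by
    apply phi_mat_abs h2 (fun D _ _ hD => Cfsg.Agent.S0205.result hD)
    intro z hz hzH
    refine mfund_ne h2 hm hz h (H0 _ hzH ?_)
    intro v
    have e : κ z * κ z = 1 := by rw [← map_mul, hz.1, map_one]
    rw [← mul_smul]
    show (κ z * κ z) • v = v
    rw [e, one_smul]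
  rw [Nat.card_eq_fintype_card, Fintype.card_fin, Subgroup.index_comap] at h3
  -- the class is small
  have h4 : Nat.card κ.range = Nat.card (SpecialLinearGroup (Fin m) F) :=
    Nat.card_congr (MonoidHom.ofInjective hκi).toEquiv.symm
  have h5 : (Subgroup.centralizer ({x} : Set (Matrix.symplecticGroup (Fin m) F))).index *
      Fintype.card F ^ (m * (m - 1)) ≤ Fintype.card F ^ (2 * m ^ 2 + m) := by
    refine le_trans (Nat.mul_le_mul_left _ ((le_card_sl (F := F) (m := m) (by omega)).trans ?_)) (le_trans (le_of_eq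
      (Subgroup.index_mul_card (Subgroup.centralizer ({x} : Set (Matrix.symplecticGroup (Fin m) F))))) card_sp_le)
    rw [← h4]
    exact Subgroup.card_le_of_le hr
  have h6 : Fintype.card F ^ (5 * (m * (m - 1) / 2)) < (Subgroup.centralizer ({x} : Set (Matrix.symplecticGroup (Fin m) F))).index := by
    refine lt_of_le_of_lt ?_ h1
    rw [mul_comm, pow_mul]
    exact Nat.pow_le_pow_left h3 5
  have h7 : Fintype.card F ^ (5 * (m * (m - 1) / 2)) * Fintype.card F ^ (m * (m - 1)) < Fintype.card F ^ (2 * m ^ 2 + m) :=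
    lt_of_lt_of_le (Nat.mul_lt_mul_of_pos_right h6 (pow_pos (by omega) _)) h5
  rw [← pow_add] at h7
  have h8 := (Nat.pow_lt_pow_iff_right hq).1 h7
  obtain ⟨k, rfl⟩ := Nat.exists_eq_add_of_le' hm
  have e1 : (k + 3) * (k + 3 - 1) = k ^ 2 + 5 * k + 6 := by
    rw [show k + 3 - 1 = k + 2 by omega]
    ring
  rw [e1, show 2 * (k + 3) ^ 2 + (k + 3) = 2 * k ^ 2 + 13 * k + 21 by ring] at h8
  obtain ⟨c, hc⟩ : 2 ∣ k ^ 2 + 5 * k + 6 := by
    have h9 := Nat.even_mul_succ_self k
    obtain ⟨c, hc⟩ := h9.two_dvd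
    refine ⟨c + 2 * k + 3, ?_⟩
    linarith [hc, show k * (k + 1) = k ^ 2 + k by ring]
  rw [hc, Nat.mul_div_cancel_left _ (by norm_num)] at h8
  nlinarith
end Cfsg.Agent.H500.IFSp
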